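import Cfsg.Agent.H79.SmallPrime.Values
import Cfsg.Agent.H15.Degree.Index

/-!
The prime seven in degree four: the squared absolute value at elements of two-power order, and
the bound on the number of Sylow subgroups of order seven by the product congruence.
-/

set_option autoImplicit false
set_option linter.style.haveILetI false
set_option linter.unusedSectionVars false

open Cfsg
open scoped ComplexConjugate

namespace H79.SmallPrime

open H85.D1 H15.HalfDeg H15.Degree

universe u

/-- The number of pairs with equal labels. -/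
def pairCount (ν : Fin 4 → Fin 4) : ℕ :=
  (Finset.univ.filter fun z : Fin 4 × Fin 4 => ν z.1 = ν z.2).card

theorem pairCount_cases_lit : ∀ a b c d : Fin 4,
    pairCount ![a, b, c, d] = 16 ∨
      (pairCount ![a, b, c, d] % 2 = 0 ∧ pairCount ![a, b, c, d] ≤ 10) := by
  decide +kernel

/-- Four values have sixteen equal ordered pairs, or an even number at most ten. -/
theorem pair_cases (w : Fin 4 → ℂ) :
    let m := (Finset.univ.filter fun z : Fin 4 × Fin 4 => w z.1 = w z.2).card
    (m = 16 ∧ ∀ i, w i = w 0) ∨ (m % 2 = 0 ∧ m ≤ 10) := by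
  classical
  intro m
  let ν : Fin 4 → Fin 4 := fun i =>
    (Finset.univ.filter fun j => w j = w i).min' ⟨i, by simp⟩
  have hν : ∀ i j, ν i = ν j ↔ w i = w j := by
    intro i j
    constructor
    · intro e
      have h1 := (Finset.univ.filter fun k => w k = w i).min'_mem ⟨i, by simp⟩
      have h2 := (Finset.univ.filter fun k => w k = w j).min'_mem ⟨j, by simp⟩
      rw [Finset.mem_filter] at h1 h2
      have e' : w (ν i) = w (ν j) := by rw [e]
      exact (h1.2.symm.trans e').trans h2.2
    · intro e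
      simp only [ν, e]
  have hm : m = pairCount ν := by
    simp only [m, pairCount]
    congr 1
    ext z
    simp [hν]
  have hlit : ν = ![ν 0, ν 1, ν 2, ν 3] := by
    ext i
    fin_cases i <;> rfl
  rcases pairCount_cases_lit (ν 0) (ν 1) (ν 2) (ν 3) with h16 | hev
  · rw [← hlit, ← hm] at h16
    refine Or.inl ⟨h16, fun i => ?_⟩
    have hall : (Finset.univ.filter fun z : Fin 4 × Fin 4 => w z.1 = w z.2) = Finset.univ :=
      Finset.eq_univ_of_card _ (by
        rw [show (Finset.univ.filter fun z : Fin 4 × Fin 4 => w z.1 = w z.2).card = 16 from h16]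
        simp)
    have := Finset.mem_univ ((i, (0 : Fin 4)))
    rw [← hall, Finset.mem_filter] at this
    exact this.2
  · rw [← hlit, ← hm] at hev
    exact Or.inr hev

/-- Sums over an even range by pairs. -/
theorem sum_range_pairs (f : ℕ → ℂ) (c : ℕ) :
    ∑ k ∈ Finset.range (2 * c), f k = ∑ k ∈ Finset.range c, (f (2 * k) + f (2 * k + 1)) := by
  induction c with
  | zero => simp
  | succ c ih =>
    rw [show 2 * (c + 1) = 2 * c + 1 + 1 by ring, Finset.sum_range_succ, Finset.sum_range_succ,
      Finset.sum_range_succ _ c, ih, add_assoc]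

variable {G : Type u} [Group G] [Fintype G] {p : ℕ} [hp : Fact p.Prime]
  {P : Sylow p G} {u a : G} {H : Subgroup G} [Fintype H] [Fintype (P : Subgroup G)]
  {D : Setting P u a H} [Fintype (D.aut (H12.oneIrr H))]
  {χ : IrrCharacter G} {θ : IrrCharacter H} {ψ : (P : Subgroup G) →* ℂˣ}
  (h : Neg D 3 4 χ θ ψ) (hft : 3 * 2 + 1 = p) {M : Ideal AlgInt} [M.IsPrime]
  (hM : IsPModular p M)

include h hft hM

/-- The squared absolute value at elements of two-power order. -/
theorem normSq_two_power {s : G} {e : ℕ} (hs : orderOf s = 2 ^ e) (hsH : s ∉ H) :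
    ∃ v ∈ ({0, 2, 4, 6, 8, 10} : Finset ℤ),
      (χ : G → ℂ) s * conj ((χ : G → ℂ) s) = (v : ℂ) := by
  classical
  obtain ⟨e', rfl⟩ : ∃ e', e = e' + 1 := Nat.exists_eq_succ_of_ne_zero fun h0 => hsH (by
    rw [h0, pow_zero, orderOf_eq_one_iff] at hs
    rw [hs]; exact H.one_mem)
  have hreg : ¬ p ∣ orderOf s := fun hd => by
    rw [hs] at hd
    have := (Nat.prime_dvd_prime_iff_eq hp.out Nat.prime_two).1 (hp.out.dvd_of_dvd_pow hd)
    omega
  set c := 2 ^ e' with hc
  have hc0 : c ≠ 0 := pow_ne_zero _ two_ne_zero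
  have ho : orderOf s = 2 * c := by rw [hs, pow_succ, mul_comm]
  obtain ⟨μ, hμ, hpow⟩ := exists_eigen (H12.isCharacter_irr χ) h.degree_eq s
  rw [ho] at hμ
  have h1 := sum_normSq_pow μ (mul_ne_zero two_ne_zero hc0) hμ
  simp only [← hpow] at h1
  have h2 := sum_normSq_pow (fun i => μ i ^ 2) hc0 fun i => by rw [← pow_mul, hμ]
  simp only [← pow_mul, ← hpow] at h2
  rw [sum_range_pairs, Finset.sum_add_distrib, h2,
    Finset.sum_congr rfl (g := fun _ => (χ : G → ℂ) s * conj ((χ : G → ℂ) s)) fun k _ =>
      normSq_pow h hft hM hreg (by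
        rw [hs]
        exact Nat.Coprime.pow_right _ (by simp [Nat.coprime_two_right, parity_simps])),
    Finset.sum_const, Finset.card_range, nsmul_eq_mul] at h1
  set m := (Finset.univ.filter fun z : Fin 4 × Fin 4 => μ z.1 = μ z.2).card with hm
  set m' := (Finset.univ.filter fun z : Fin 4 × Fin 4 => μ z.1 ^ 2 = μ z.2 ^ 2).card with hm'
  have hle : m ≤ m' := Finset.card_le_card fun z hz => by
    simp only [Finset.mem_filter] at hz ⊢
    exact ⟨hz.1, by rw [hz.2]⟩
  have hy : (χ : G → ℂ) s * conj ((χ : G → ℂ) s) = 2 * (m : ℂ) - (m' : ℂ) := by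
    have hcC : (c : ℂ) ≠ 0 := Nat.cast_ne_zero.2 hc0
    refine mul_left_cancel₀ hcC ?_
    push_cast at h1
    linear_combination h1
  obtain ⟨z, hz, hz0, hz15⟩ := exists_normSq h hft hM hreg
  have hzm : z = 2 * (m : ℤ) - (m' : ℤ) := by
    apply Int.cast_injective (α := ℂ)
    push_cast
    rw [← hz, hy]
  rcases pair_cases μ with ⟨-, hall⟩ | ⟨hev, hmle⟩
  · exfalso
    refine hsH (mem_center_of_normSq h hM ?_)
    have he : (χ : G → ℂ) s = 4 * μ 0 := by
      have h3 := hpow 1
      simp only [pow_one] at h3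
      rw [h3, Finset.sum_congr rfl fun i _ => hall i, Finset.sum_const, Finset.card_univ,
        Fintype.card_fin, nsmul_eq_mul]
      norm_num
    have h4 := root_mul_conj (mul_ne_zero two_ne_zero hc0) (hμ 0)
    rw [he, map_mul, map_ofNat]
    linear_combination 16 * h4
  · have hev' : m' % 2 = 0 := by
      rcases pair_cases (fun i => μ i ^ 2) with ⟨h16, -⟩ | ⟨h', -⟩
      · rw [show m' = 16 from h16]
      · exact h'
    refine ⟨z, ?_, hz⟩
    rw [← hm] at hev hmle
    simp only [Finset.mem_insert, Finset.mem_singleton]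
    omega

omit hM in
/-- The order of the group. -/
theorem card_eq : Nat.card G = 21 * Nat.card H * Nat.card (Sylow p G) := by
  rw [card_group h hft, ← hft]

omit hft in
/-- The centre is a two-group. -/
theorem isPGroup_center : IsPGroup 2 H := fun x => ⟨2, (theta_pow_four h hM x).2⟩

/-- The number of Sylow subgroups divides `2 ^ 12 * 15`. -/
theorem card_sylow_dvd : Nat.card (Sylow p G) ∣ 2 ^ 12 * 15 := by
  classical
  have hdvd : Nat.card G ∣ Nat.card H * (2 ^ 12 * 315) := by
    rw [Nat.dvd_iff_prime_pow_dvd_dvd]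
    intro r e hr hd
    haveI := Fact.mk hr
    have hS : ∀ S : Sylow r G, r ^ e ∣ Nat.card S := fun S => by
      rw [S.card_eq_multiplicity]
      exact pow_dvd_pow r ((hr.pow_dvd_iff_le_factorization Nat.card_pos.ne').1 hd)
    obtain ⟨S⟩ : Nonempty (Sylow r G) := inferInstance
    haveI : Fintype (S : Subgroup G) := Fintype.ofFinite _
    by_cases hrp : r = p
    · subst hrp
      have h1 := hS P
      rw [D.hP] at h1
      refine h1.trans (dvd_mul_of_dvd_right ?_ _)
      exact ⟨2 ^ 12 * 45, by omega⟩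
    by_cases hr2 : r = 2
    · subst hr2
      have hF : IsCharacter (S : Subgroup G)
          fun s : (S : Subgroup G) => (χ : G → ℂ) s * conj ((χ : G → ℂ) s) :=
        H12.IsCharacter.res (H12.IsCharacter.mul (H12.isCharacter_irr χ)
          (H12.IsCharacter.star (H12.isCharacter_irr _))) (S : Subgroup G)
      have hmain := card_dvd_prod hF (H.subgroupOf (S : Subgroup G)) (N := 16)
        (fun s hs => by
          have h1 := normSq_mul_center h hM 1 ⟨(s : G), hs⟩
          rw [one_mul] at h1
          show (χ : G → ℂ) s * conj ((χ : G → ℂ) s) = _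
          rw [h1, H12.irr_apply_one, h.degree_eq, map_natCast]
          norm_num)
        {0, 2, 4, 6, 8, 10} fun s hs => by
          obtain ⟨k, hk⟩ := S.isPGroup' s
          obtain ⟨e', -, he'⟩ := (Nat.dvd_prime_pow Nat.prime_two).1
            (orderOf_dvd_of_pow_eq_one hk)
          exact normSq_two_power h hft hM (e := e') (by rw [Subgroup.orderOf_coe, he']) hs
      rw [show ∏ v ∈ ({0, 2, 4, 6, 8, 10} : Finset ℤ), ((16 : ℤ) - v) = ((2 ^ 12 * 315 : ℕ) : ℤ) by
        decide, ← Nat.cast_mul, Int.natCast_dvd_natCast] at hmain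
      refine (hS S).trans (hmain.trans (Nat.mul_dvd_mul_right ?_ _))
      exact Subgroup.card_dvd_of_injective
        (((S : Subgroup G).subtype.comp (H.subgroupOf (S : Subgroup G)).subtype).codRestrict H
          fun x => x.2) fun x y hxy => Subtype.ext (Subtype.ext (congrArg Subtype.val hxy :))
    · have hmain := card_dvd_prod (H12.IsCharacter.res (H12.isCharacter_irr χ) (S : Subgroup G))
        (⊥ : Subgroup (S : Subgroup G)) (N := 4)
        (fun s hs => by
          rw [Subgroup.mem_bot] at hs
          subst hs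
          show (χ : G → ℂ) ((1 : (S : Subgroup G)) : G) = _
          rw [OneMemClass.coe_one, H12.irr_apply_one, h.degree_eq]
          norm_num)
        (Finset.Icc (-3) 3) fun s hs => by
          obtain ⟨k, hk⟩ := S.isPGroup' s
          obtain ⟨e', -, he'⟩ := (Nat.dvd_prime_pow hr).1 (orderOf_dvd_of_pow_eq_one hk)
          obtain ⟨z, hz, hz'⟩ := exists_value h hft hM hr hr2 hrp (g := (s : G)) (e := e')
            (by rw [Subgroup.orderOf_coe, he'])
          refine ⟨z, Finset.mem_Icc.2 ?_, hz⟩
          exact hz'.resolve_left fun h1 => hs (Subgroup.mem_bot.2 (Subtype.ext h1))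
      rw [Subgroup.card_bot, Nat.cast_one, one_mul,
        show ∏ v ∈ Finset.Icc (-3 : ℤ) 3, ((4 : ℤ) - v) = ((5040 : ℕ) : ℤ) by decide,
        Int.natCast_dvd_natCast] at hmain
      have h1 : r ^ e ∣ 2 ^ 4 * 315 := (hS S).trans hmain
      have h2 : Nat.Coprime (r ^ e) (2 ^ 4) :=
        ((Nat.coprime_primes hr Nat.prime_two).2 hr2).pow e 4
      exact (h2.dvd_of_dvd_mul_left h1).trans (dvd_mul_of_dvd_right (dvd_mul_left _ _) _)
  rw [card_eq h hft] at hdvd
  have h1 : 21 * Nat.card (Sylow p G) ∣ 21 * (2 ^ 12 * 15) := by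
    refine Nat.dvd_of_mul_dvd_mul_left (Nat.card_pos (α := H)) ?_
    rw [show Nat.card H * (21 * Nat.card (Sylow p G)) = 21 * Nat.card H * Nat.card (Sylow p G) by
      ring, show 21 * (2 ^ 12 * 15) = 2 ^ 12 * 315 by norm_num]
    exact hdvd
  exact Nat.dvd_of_mul_dvd_mul_left (by norm_num) h1

end H79.SmallPrime
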