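import Cfsg.Agent.H25.Galois
import Cfsg.Agent.H24.CharBasic
import Cfsg.Agent.H12.Integral

/-!
Characters on cyclic subgroups: sums over powers, rationality from invariance under the
generators, and the product congruence for characters with few integral values.
-/

set_option autoImplicit false
set_option linter.unusedSectionVars false
set_option linter.style.haveILetI false

open Cfsg
open scoped ComplexConjugate

namespace H79.SmallPrime

universe u

variable {G : Type u} [Group G] [Fintype G]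

/-- The eigenvalues of an element in a character. -/
theorem exists_eigen {F : G → ℂ} (hF : IsCharacter G F) {d : ℕ} (hd : H12.degree F = d) (g : G) :
    ∃ μ : Fin d → ℂ, (∀ i, μ i ^ orderOf g = 1) ∧ ∀ k : ℕ, F (g ^ k) = ∑ i, μ i ^ k := by
  obtain ⟨n, ρ, rfl⟩ := hF
  obtain ⟨μ, h1, h2, -⟩ := H12.exists_char_eigenvalues ρ g
  have hn : Module.finrank ℂ (Fin n → ℂ) = d := by rw [← hd, H12.degree_character]
  refine ⟨fun i => μ (Fin.cast hn.symm i), fun i => h1 _, fun k => ?_⟩
  rw [h2 k]
  exact (Equiv.sum_comp (finCongr hn.symm) fun i => μ i ^ k).symm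

/-- Powers of a root of unity. -/
theorem sum_root {w : ℂ} {n : ℕ} (hw : w ^ n = 1) :
    ∑ k ∈ Finset.range n, w ^ k = if w = 1 then (n : ℂ) else 0 := by
  split_ifs with h
  · simp [h]
  · rw [geom_sum_eq h, hw, sub_self, zero_div]

theorem sum_pow_sum {ι : Type*} [Fintype ι] (w : ι → ℂ) {n : ℕ} (hw : ∀ i, w i ^ n = 1) :
    ∑ k ∈ Finset.range n, ∑ i, w i ^ k =
      (n : ℂ) * ((Finset.univ.filter fun i => w i = 1).card : ℂ) := by
  classical
  rw [Finset.sum_comm, Finset.sum_congr rfl fun i _ => sum_root (hw i), Finset.sum_ite,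
    Finset.sum_const_zero, add_zero, Finset.sum_const, nsmul_eq_mul, mul_comm]

theorem root_mul_conj {w : ℂ} {n : ℕ} (hn : n ≠ 0) (hw : w ^ n = 1) : w * conj w = 1 := by
  rw [Complex.mul_conj, Complex.normSq_eq_norm_sq, Complex.norm_eq_one_of_pow_eq_one hw hn,
    one_pow, Complex.ofReal_one]

/-- The sum of the squared absolute values over the powers counts the pairs of equal roots. -/
theorem sum_normSq_pow {ι : Type*} [Fintype ι] [DecidableEq ι] (w : ι → ℂ) {n : ℕ} (hn : n ≠ 0)
    (hw : ∀ i, w i ^ n = 1) :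
    ∑ k ∈ Finset.range n, (∑ i, w i ^ k) * conj (∑ i, w i ^ k) =
      (n : ℂ) * ((Finset.univ.filter fun z : ι × ι => w z.1 = w z.2).card : ℂ) := by
  classical
  have e : ∀ k, (∑ i, w i ^ k) * conj (∑ i, w i ^ k) =
      ∑ z : ι × ι, (w z.1 * conj (w z.2)) ^ k := fun k => by
    rw [map_sum, Finset.sum_mul_sum, ← Finset.sum_product']
    refine Finset.sum_congr (by ext; simp) fun z _ => ?_
    rw [map_pow, mul_pow]
  rw [Finset.sum_congr rfl fun k _ => e k, sum_pow_sum _ fun z => by
    rw [mul_pow, hw, ← map_pow, hw, map_one, one_mul]]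
  congr 2
  congr 1
  ext z
  simp only [Finset.mem_filter, Finset.mem_univ, true_and]
  constructor
  · intro h
    have h1 := root_mul_conj hn (hw z.2)
    calc w z.1 = w z.1 * (w z.2 * conj (w z.2)) := by rw [h1, mul_one]
      _ = w z.2 * (w z.1 * conj (w z.2)) := by ring
      _ = w z.2 := by rw [h, mul_one]
  · intro h
    rw [h, root_mul_conj hn (hw z.2)]

/-- A value invariant under the generators of each cyclic subgroup is an integer. -/
theorem exists_int_of_invariant {F : G → ℂ} (hF : IsCharacter G F) {g : G}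
    (hinv : ∀ (m j : ℕ), Nat.Coprime j (orderOf (g ^ m)) → F ((g ^ m) ^ j) = F (g ^ m)) :
    ∃ z : ℤ, F g = (z : ℂ) := by
  classical
  suffices hr : ∀ n m, orderOf (g ^ m) = n → ∃ q : ℚ, F (g ^ m) = (q : ℂ) by
    obtain ⟨q, hq⟩ := hr _ 1 rfl
    rw [pow_one] at hq
    obtain ⟨z, hz⟩ := H12.exists_int_of_isIntegral_rat (hq ▸ H12.IsCharacter.isIntegral hF g)
    exact ⟨z, by rw [hq, ← hz]; simp⟩
  intro n
  induction n using Nat.strong_induction_on with
  | _ n ih =>
    intro m hm
    obtain ⟨μ, hμ, hpow⟩ := exists_eigen hF rfl (g ^ m)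
    have htot := sum_pow_sum μ hμ
    simp only [← hpow] at htot
    rw [hm, ← Finset.sum_filter_add_sum_filter_not (Finset.range n) (fun k => Nat.Coprime k n),
      Finset.sum_congr rfl fun k hk => hinv m k (hm.symm ▸ (Finset.mem_filter.1 hk).2),
      Finset.sum_const, nsmul_eq_mul] at htot
    have hn0 : 0 < n := hm ▸ orderOf_pos _
    have hlow : ∀ k ∈ (Finset.range n).filter (fun k => ¬ Nat.Coprime k n),
        ∃ q : ℚ, F ((g ^ m) ^ k) = (q : ℂ) := by
      intro k hk
      rw [← pow_mul]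
      refine ih _ ?_ _ rfl
      rw [pow_mul, orderOf_pow, hm]
      refine Nat.div_lt_self hn0 ?_
      have h1 := (Finset.mem_filter.1 hk).2
      have h2 : 0 < n.gcd k := Nat.gcd_pos_of_pos_left _ hn0
      rw [Nat.coprime_iff_gcd_eq_one, Nat.gcd_comm] at h1
      omega
    choose! q hq using hlow
    rw [Finset.sum_congr rfl hq] at htot
    set c := ((Finset.range n).filter fun k => Nat.Coprime k n).card with hc
    have hc0 : (c : ℂ) ≠ 0 := by
      refine Nat.cast_ne_zero.2 (Finset.card_ne_zero.2 ?_)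
      rcases Nat.eq_or_lt_of_le hn0 with h1 | h1
      · exact ⟨0, Finset.mem_filter.2 ⟨Finset.mem_range.2 hn0, by rw [← h1]; simp⟩⟩
      · exact ⟨1, Finset.mem_filter.2 ⟨Finset.mem_range.2 h1, Nat.coprime_one_left n⟩⟩
    refine ⟨((n : ℚ) * ((Finset.univ.filter fun i => μ i = 1).card : ℚ) -
      ∑ k ∈ (Finset.range n).filter (fun k => ¬ Nat.Coprime k n), q k) / (c : ℚ), ?_⟩
    push_cast
    rw [eq_div_iff hc0]
    linear_combination htot

/-- The product congruence: a character with values in a finite set of integers away from the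
subgroup where it is constant. -/
theorem card_dvd_prod {F : G → ℂ} (hF : IsCharacter G F) (K : Subgroup G) {N : ℤ}
    (hK : ∀ g ∈ K, F g = (N : ℂ)) (V : Finset ℤ) (hV : ∀ g ∉ K, ∃ v ∈ V, F g = (v : ℂ)) :
    (Nat.card G : ℤ) ∣ (Nat.card K : ℤ) * ∏ v ∈ V, (N - v) := by
  classical
  have key : ∀ (s : Finset ℤ) (W : G → ℂ), IsCharacter G W →
      ∃ z : ℤ, ∑ g : G, W g * ∏ v ∈ s, (F g - (v : ℂ)) = (Nat.card G : ℂ) * z := by
    intro s
    induction s using Finset.induction with
    | empty =>
      intro W hW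
      obtain ⟨m, hm⟩ := H24.sum_subgroup_eq hW (⊤ : Subgroup G)
      refine ⟨(m : ℤ), ?_⟩
      rw [Subgroup.card_top] at hm
      push_cast
      rw [← hm]
      simp only [Finset.prod_empty, mul_one]
      exact (Fintype.sum_equiv (Subgroup.topEquiv (G := G)).toEquiv _ _ fun _ => rfl).symm
    | insert v s hv ih =>
      intro W hW
      obtain ⟨a, ha⟩ := ih _ (H12.IsCharacter.mul hW hF)
      obtain ⟨b, hb⟩ := ih W hW
      refine ⟨a - v * b, ?_⟩
      push_cast
      rw [mul_sub, ← ha, show (Nat.card G : ℂ) * ((v : ℂ) * b) = (v : ℂ) * ((Nat.card G : ℂ) * b) by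
        ring, ← hb, Finset.mul_sum, ← Finset.sum_sub_distrib]
      refine Finset.sum_congr rfl fun g _ => ?_
      rw [Finset.prod_insert hv, Pi.mul_apply]
      ring
  obtain ⟨z, hz⟩ := key V (fun _ => 1) (H12.isCharacter_one (G := G))
  refine ⟨z, Int.cast_injective (α := ℂ) ?_⟩
  push_cast
  rw [← hz]
  simp only [one_mul]
  have e : ∀ g : G, ∏ v ∈ V, (F g - (v : ℂ)) =
      if g ∈ K then ∏ v ∈ V, ((N : ℂ) - (v : ℂ)) else 0 := fun g => by
    split_ifs with h
    · rw [hK g h]
    · obtain ⟨v, hv, hgv⟩ := hV g h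
      exact Finset.prod_eq_zero hv (by rw [hgv, sub_self])
  rw [Finset.sum_congr rfl fun g _ => e g, Finset.sum_ite, Finset.sum_const_zero, add_zero,
    Finset.sum_const, nsmul_eq_mul]
  rw [Nat.card_eq_fintype_card, Fintype.card_subtype]

end H79.SmallPrime
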