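import Cfsg.Agent.H79.SmallPrime.Bound
import Cfsg.Agent.H15.PSubTwo.Main

/-!
The prime seven in degree four: centralisers of elements of order five, and the second and fourth
moments of the character.
-/

set_option autoImplicit false
set_option linter.style.haveILetI false
set_option linter.unusedSectionVars false

open Cfsg
open scoped ComplexConjugate

namespace H79.SmallPrime

open H85.D1 H15.HalfDeg H15.Degree

universe u

theorem arith_five_lit : ∀ i : Fin 13, ∀ y ∈ [1, 3, 5, 15], ∀ e ∈ [1, 2, 4],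
    2 ^ i.1 * y % 7 = 1 → 5 ∣ 2 ^ i.1 * y → 5 * e ∣ 21 * (2 ^ i.1 * y) →
      21 * (2 ^ i.1 * y) / (5 * e) % 5 = 1 →
      392 * (21 * (2 ^ i.1 * y) / (5 * e)) ≤ 819 * (2 ^ i.1 * y) + 112 → 2 ^ i.1 * y = 120 := by
  decide +kernel

theorem arith_five (i : Fin 13) (y : ℕ) (hy : y ∈ [1, 3, 5, 15]) (e : ℕ) (he : e ∈ [1, 2, 4])
    (N : ℕ) (hN : N = 2 ^ i.1 * y) (h7 : N % 7 = 1) (h5 : 5 ∣ N) (hd : 5 * e ∣ 21 * N)
    (hm : 21 * N / (5 * e) % 5 = 1) (hi : 392 * (21 * N / (5 * e)) ≤ 819 * N + 112) : N = 120 := by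
  subst hN
  exact arith_five_lit i y hy e he h7 h5 hd hm hi

variable {G : Type u} [Group G] [Fintype G] {p : ℕ} [hp : Fact p.Prime]
  {P : Sylow p G} {u a : G} {H : Subgroup G} [Fintype H] [Fintype (P : Subgroup G)]
  {D : Setting P u a H} [Fintype (D.aut (H12.oneIrr H))]
  {χ : IrrCharacter G} {θ : IrrCharacter H} {ψ : (P : Subgroup G) →* ℂˣ}
  (h : Neg D 3 4 χ θ ψ) (hft : 3 * 2 + 1 = p) {M : Ideal AlgInt} [M.IsPrime]
  (hM : IsPModular p M)

include h hft hM

/-- An element of order five has character value `-1`. -/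
theorem apply_five {g : G} (hg : orderOf g = 5) : (χ : G → ℂ) g = -1 := by
  obtain ⟨z, hz, hz'⟩ := exists_value h hft hM (by norm_num : Nat.Prime 5) (by norm_num)
    (by omega) (e := 1) (by rw [hg, pow_one])
  obtain ⟨hlo, hhi⟩ := hz'.resolve_left fun h1 => by rw [h1, orderOf_one] at hg; norm_num at hg
  obtain ⟨μ, hμ, hpow⟩ := exists_eigen (H12.isCharacter_irr χ) h.degree_eq g
  rw [hg] at hμ
  have h1 := sum_pow_sum μ hμ
  simp only [← hpow] at h1
  have hreg : ¬ p ∣ orderOf g := by
    rw [hg]; intro hd; have := Nat.le_of_dvd (by norm_num) hd; omega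
  have hinv : ∀ k, k + 1 < 5 → (χ : G → ℂ) (g ^ (k + 1)) = (z : ℂ) := fun k hk => by
    rw [apply_pow h hft hM hreg (by
      rw [hg, Nat.coprime_comm]
      exact (Nat.Prime.coprime_iff_not_dvd (by norm_num)).2 fun hd => by
        have := Nat.le_of_dvd (by omega) hd
        omega) (by rw [hg]; exact Nat.modEq_one), hz]
  rw [Finset.sum_range_succ', pow_zero, H12.irr_apply_one, h.degree_eq,
    Finset.sum_congr rfl fun k hk => hinv k (by have := Finset.mem_range.1 hk; omega),
    Finset.sum_const, Finset.card_range, nsmul_eq_mul] at h1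
  set m := (Finset.univ.filter fun i => μ i = 1).card
  have h2 : 4 * z + 4 = 5 * (m : ℤ) := by
    apply Int.cast_injective (α := ℂ)
    push_cast at h1 ⊢
    linear_combination h1
  rw [hz, show z = -1 by omega]
  norm_num

/-- Elements of order prime to five commuting with an element of order five are central. -/
theorem mem_center_of_commute {g c : G} (hg : orderOf g = 5) (hc : Commute g c)
    (hco : Nat.Coprime 5 (orderOf c)) (hcr : ¬ p ∣ orderOf c) : c ∈ H := by
  classical
  set o := orderOf c with ho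
  set n := 5 * o with hn
  obtain ⟨e₀, he₀, he₀'⟩ := Nat.chineseRemainder hco 0 1
  obtain ⟨d, hd, hd'⟩ := Nat.chineseRemainder hco 1 0
  set b := g * c with hb
  have hbo : orderOf b = n := by
    rw [hb, hc.orderOf_mul_eq_mul_orderOf_of_coprime (by rw [hg]; exact hco), hg]
  have hbt : ∀ t, b ^ (e₀ + t * d) = g ^ t * c := fun t => by
    rw [hb, hc.mul_pow]
    congr 1
    · rw [pow_eq_pow_iff_modEq, hg]
      simpa using (he₀.add (hd.mul_left t))
    · conv_rhs => rw [← pow_one c]
      rw [pow_eq_pow_iff_modEq]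
      simpa using (he₀'.add (hd'.mul_left t))
  obtain ⟨μ, hμ, hpow⟩ := exists_eigen (H12.isCharacter_irr χ) h.degree_eq b
  rw [hbo] at hμ
  set lam : Fin 4 → ℂ := fun i => μ i ^ e₀ with hlam
  set ζ : Fin 4 → ℂ := fun i => μ i ^ d with hζ
  have hn0 : n ≠ 0 := mul_ne_zero (by norm_num) (orderOf_pos c).ne'
  have hlam1 : ∀ i, lam i * conj (lam i) = 1 := fun i => root_mul_conj hn0 (by
    rw [hlam, ← pow_mul, mul_comm, pow_mul, hμ, one_pow])
  have hζ5 : ∀ i, ζ i ^ 5 = 1 := fun i => by
    obtain ⟨q, hq⟩ := Nat.modEq_zero_iff_dvd.1 hd'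
    rw [hζ, ← pow_mul, hq, show o * q * 5 = 5 * o * q by ring, pow_mul, hμ, one_pow]
  have hval : ∀ t, (χ : G → ℂ) (g ^ t * c) = ∑ i, lam i * ζ i ^ t := fun t => by
    rw [← hbt, hpow]
    refine Finset.sum_congr rfl fun i _ => ?_
    simp only [hlam, hζ, pow_add, ← pow_mul, mul_comm t d]
  have hgt : ∀ t, (χ : G → ℂ) (g ^ t) = ∑ i, ζ i ^ t := fun t => by
    have h1 : b ^ (t * d) = g ^ t := by
      rw [hb, hc.mul_pow]
      conv_rhs => rw [← mul_one (g ^ t)]
      congr 1
      · rw [pow_eq_pow_iff_modEq, hg]; simpa using hd.mul_left t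
      · rw [← orderOf_dvd_iff_pow_eq_one]
        exact dvd_mul_of_dvd_right (Nat.modEq_zero_iff_dvd.1 hd') t
    rw [← h1, hpow]
    refine Finset.sum_congr rfl fun i _ => ?_
    rw [hζ, mul_comm, pow_mul]
  have hg5 : ∀ t, t + 1 < 5 → (χ : G → ℂ) (g ^ (t + 1)) = -1 := fun t ht => by
    refine apply_five h hft hM ?_
    rw [Nat.Coprime.orderOf_pow ?_, hg]
    rw [hg]
    exact (Nat.Prime.coprime_iff_not_dvd (by norm_num)).2 fun hd5 => by
      have := Nat.le_of_dvd (by omega) hd5
      omega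
  -- the eigenvalues of `g`
  have hnone : ∀ i, ζ i ≠ 1 := by
    have h1 := sum_pow_sum ζ hζ5
    simp only [← hgt] at h1
    rw [Finset.sum_range_succ', pow_zero, H12.irr_apply_one, h.degree_eq,
      Finset.sum_congr rfl fun t ht => hg5 t (by have := Finset.mem_range.1 ht; omega),
      Finset.sum_const, Finset.card_range, nsmul_eq_mul] at h1
    norm_num at h1
    intro i hi
    exact h1 hi
  have hinj : Function.Injective ζ := by
    have h1 := sum_normSq_pow ζ (by norm_num : (5 : ℕ) ≠ 0) hζ5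
    simp only [← hgt] at h1
    rw [Finset.sum_range_succ', pow_zero, H12.irr_apply_one, h.degree_eq, map_natCast,
      Finset.sum_congr rfl fun t ht => by
        rw [hg5 t (by have := Finset.mem_range.1 ht; omega), map_neg, map_one],
      Finset.sum_const, Finset.card_range, nsmul_eq_mul] at h1
    set F := Finset.univ.filter fun z : Fin 4 × Fin 4 => ζ z.1 = ζ z.2 with hF
    have h2 : F.card = 4 := by
      have : ((5 * F.card : ℕ) : ℂ) = ((20 : ℕ) : ℂ) := by
        push_cast; push_cast at h1; linear_combination -h1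
      have h3 : 5 * F.card = 20 := by exact_mod_cast this
      omega
    have hdiag : (Finset.univ.image fun i : Fin 4 => (i, i)) = F := by
      refine Finset.eq_of_subset_of_card_le (fun z hz => ?_) ?_
      · obtain ⟨i, -, rfl⟩ := Finset.mem_image.1 hz
        simp [hF]
      · rw [h2, Finset.card_image_of_injective _ fun x y e => congrArg Prod.fst e]
        simp
    intro i j e
    have : (i, j) ∈ F := by simp [hF, e]
    rw [← hdiag, Finset.mem_image] at this
    obtain ⟨k, -, hk⟩ := this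
    exact (congrArg Prod.fst hk).symm.trans (congrArg Prod.snd hk)
  -- the sums over the coset
  have hS1 : ∑ t ∈ Finset.range 5, (χ : G → ℂ) (g ^ t * c) = 0 := by
    simp only [hval]
    rw [Finset.sum_comm]
    refine Finset.sum_eq_zero fun i _ => ?_
    rw [← Finset.mul_sum, sum_root (hζ5 i), if_neg (hnone i), mul_zero]
  have hS2 : ∑ t ∈ Finset.range 5,
      (χ : G → ℂ) (g ^ t * c) * conj ((χ : G → ℂ) (g ^ t * c)) = 20 := by
    simp only [hval, map_sum, Finset.sum_mul_sum]
    rw [Finset.sum_comm, Finset.sum_congr rfl fun i _ => Finset.sum_comm]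
    have e : ∀ i j, ∑ t ∈ Finset.range 5, lam i * ζ i ^ t * conj (lam j * ζ j ^ t) =
        if i = j then 5 else 0 := fun i j => by
      rw [Finset.sum_congr rfl (g := fun t => lam i * conj (lam j) * (ζ i * conj (ζ j)) ^ t)
          (fun t _ => by simp only [map_mul, map_pow, mul_pow]; ring),
        ← Finset.mul_sum, sum_root (by rw [mul_pow, hζ5, ← map_pow, hζ5, map_one, one_mul])]
      by_cases hij : i = j
      · subst hij
        rw [if_pos (root_mul_conj (by norm_num) (hζ5 i)), if_pos rfl, hlam1]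
        norm_num
      · rw [if_neg hij, if_neg, mul_zero]
        intro h1
        refine hij (hinj ?_)
        calc ζ i = ζ i * (ζ j * conj (ζ j)) := by
              rw [root_mul_conj (by norm_num) (hζ5 j), mul_one]
          _ = ζ j * (ζ i * conj (ζ j)) := by ring
          _ = ζ j := by rw [h1, mul_one]
    simp only [e, Finset.sum_ite_eq, Finset.mem_univ, if_true, Finset.sum_const,
      Finset.card_univ, Fintype.card_fin]
    norm_num
  -- the four other elements of the coset share their value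
  have hgc : ∀ t, Commute (g ^ t) c := fun t => hc.pow_left t
  have hrb : ¬ p ∣ orderOf b := by
    rw [hbo, hn]
    intro hd5
    rcases hp.out.dvd_mul.1 hd5 with h5 | h5
    · have := Nat.le_of_dvd (by norm_num) h5; omega
    · exact hcr h5
  have hK : ∀ t, t + 1 < 5 → (χ : G → ℂ) (g ^ (t + 1) * c) = (χ : G → ℂ) b := fun t ht => by
    obtain ⟨j, hj, hj'⟩ := Nat.chineseRemainder hco (t + 1) 1
    have hbj : b ^ j = g ^ (t + 1) * c := by
      rw [hb, hc.mul_pow]
      congr 1
      · rw [pow_eq_pow_iff_modEq, hg]; exact hj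
      · conv_rhs => rw [← pow_one c]
        rw [pow_eq_pow_iff_modEq]; exact hj'
    rw [← hbj]
    refine apply_pow h hft hM hrb ?_ ?_
    · rw [hbo]
      refine Nat.Coprime.mul_right ?_ ?_
      · rw [Nat.coprime_iff_gcd_eq_one, hj.gcd_eq, ← Nat.coprime_iff_gcd_eq_one, Nat.coprime_comm]
        exact (Nat.Prime.coprime_iff_not_dvd (by norm_num)).2 fun hd5 => by
          have := Nat.le_of_dvd (by omega) hd5
          omega
      · rw [Nat.coprime_iff_gcd_eq_one, hj'.gcd_eq, Nat.gcd_one_left]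
    · refine hj'.of_dvd ?_
      rw [hbo]
      exact Nat.Coprime.dvd_of_dvd_mul_left
        (Nat.Coprime.coprime_dvd_left (Nat.gcd_dvd_right _ 4) (by decide)) (Nat.gcd_dvd_left _ 4)
  rw [Finset.sum_range_succ', pow_zero, one_mul,
    Finset.sum_congr rfl fun t ht => hK t (by have := Finset.mem_range.1 ht; omega),
    Finset.sum_const, Finset.card_range, nsmul_eq_mul] at hS1
  rw [Finset.sum_range_succ', pow_zero, one_mul,
    Finset.sum_congr rfl fun t ht => by rw [hK t (by have := Finset.mem_range.1 ht; omega)],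
    Finset.sum_const, Finset.card_range, nsmul_eq_mul] at hS2
  refine mem_center_of_normSq h hM ?_
  have e1 : (χ : G → ℂ) c = -4 * (χ : G → ℂ) b := by push_cast at hS1; linear_combination hS1
  have e2 := congrArg (starRingEnd ℂ) e1
  rw [map_mul, map_neg, map_ofNat] at e2
  rw [e2, e1] at hS2
  rw [e2, e1]
  push_cast at hS2
  linear_combination (4 / 5 : ℂ) * hS2

omit hft hM in
theorem coprime_five_of_pow (c : G) (h25 : ¬ 5 ^ 2 ∣ Nat.card G) :
    Nat.Coprime 5 (orderOf (c ^ 5)) := by
  rw [Nat.Prime.coprime_iff_not_dvd (by norm_num)]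
  intro hd
  refine h25 (dvd_trans ?_ (orderOf_dvd_natCard c))
  rw [orderOf_pow] at hd
  by_cases h5 : 5 ∣ orderOf c
  · rw [Nat.gcd_eq_right h5] at hd
    obtain ⟨q, hq⟩ := hd
    exact ⟨q, by rw [← Nat.div_mul_cancel h5, hq]; ring⟩
  · rw [(Nat.Coprime.symm ((Nat.Prime.coprime_iff_not_dvd (by norm_num)).2 h5)).gcd_eq_one,
      Nat.div_one] at hd
    exact absurd hd h5

omit hft in
theorem orderOf_dvd_four {z : G} (hz : z ∈ H) : orderOf z ∣ 4 :=
  orderOf_dvd_of_pow_eq_one (center_pow_four h hM hz)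

/-- Elements of order five commute with no element of order `p`. -/
theorem not_dvd_of_commute {g c : G} (hg : orderOf g = 5) (hc : Commute g c) :
    ¬ p ∣ orderOf c := by
  intro hd
  obtain ⟨q, hq⟩ := hd
  have hq0 : q ≠ 0 := fun h0 => by rw [h0, mul_zero] at hq; exact (orderOf_pos c).ne' hq
  have hy : orderOf (c ^ q) = p := by
    rw [orderOf_pow_of_dvd hq0 ⟨p, by rw [hq, mul_comm]⟩, hq,
      Nat.mul_div_cancel _ (Nat.pos_of_ne_zero hq0)]
  obtain ⟨z, hz, hconj⟩ := H20.FreeSylow.exists_isConj_mem (P := P) (y := c ^ q)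
    ⟨1, by rw [pow_one, hy]⟩
  obtain ⟨t, ht⟩ := isConj_iff.1 hconj
  have hz1 : z ≠ 1 := fun h1 => by
    rw [h1, conj_eq_one_iff] at ht
    rw [ht, orderOf_one] at hy
    exact hp.out.ne_one hy.symm
  set g' := t * g * t⁻¹ with hg'
  have hcomm : Commute g' z := by
    rw [hg', ← ht]
    exact (hc.pow_right q).map (MulAut.conj t).toMonoidHom
  have hgo : orderOf g' = 5 := by rw [hg', H20.orderOf_conj', hg]
  obtain ⟨x, hx, k, hk, hxk⟩ := D.exists_mul (D.centralizer_eq hz hz1 hcomm)
  have h28 : g' ^ (p * 4) = 1 := by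
    rw [hxk, (D.comm hx hk).mul_pow, pow_mul, H15.PSubTwo.pow_p_eq_one D hx, one_pow, one_mul,
      mul_comm, pow_mul, center_pow_four h hM hk, one_pow]
  have h1 := orderOf_dvd_of_pow_eq_one h28
  rw [hgo] at h1
  rcases (Nat.prime_five).dvd_mul.1 h1 with h5 | h5
  · rw [← hft] at h5; norm_num at h5
  · norm_num at h5

/-- The centraliser of a Sylow subgroup of order five. -/
theorem exists_mul_five (h25 : ¬ 5 ^ 2 ∣ Nat.card G) [Fact (Nat.Prime 5)] (Q : Sylow 5 G) {g : G}
    (hgQ : g ∈ (Q : Subgroup G)) (hg : orderOf g = 5) {c : G}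
    (hc : c ∈ Subgroup.centralizer ((Q : Subgroup G) : Set G)) :
    ∃ q ∈ (Q : Subgroup G), ∃ z ∈ H, c = q * z := by
  have hcomm : Commute g c := hc g hgQ
  have hz : c ^ 5 ∈ H := mem_center_of_commute h hft hM hg (hcomm.pow_right 5)
    (coprime_five_of_pow h c h25)
    fun hd => not_dvd_of_commute h hft hM hg hcomm (hd.trans (orderOf_pow_dvd 5))
  refine ⟨c ^ 16, ?_, c ^ 5, hz, ?_⟩
  · have h20 : (c ^ 5) ^ 4 = 1 := center_pow_four h hM hz
    have h16 : (c ^ 16) ^ 5 = 1 := by
      rw [show (c ^ 16) ^ 5 = ((c ^ 5) ^ 4) ^ 4 by simp only [← pow_mul], h20, one_pow]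
    have hpg : IsPGroup 5 (Subgroup.zpowers (c ^ 16)) := by
      intro x
      refine ⟨1, Subtype.ext ?_⟩
      obtain ⟨i, hi⟩ := Subgroup.mem_zpowers_iff.1 x.2
      rw [pow_one, SubmonoidClass.coe_pow, ← hi, ← zpow_natCast, ← zpow_mul, mul_comm, zpow_mul,
        zpow_natCast, h16, one_zpow, OneMemClass.coe_one]
    have hN : c ^ 16 ∈ Subgroup.normalizer ((Q : Subgroup G) : Set G) :=
      Subgroup.centralizer_le_normalizer ((Q : Subgroup G) : Set G) (pow_mem hc 16)
    have := hpg.inf_normalizer_sylow Q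
    have h1 : c ^ 16 ∈ Subgroup.zpowers (c ^ 16) ⊓ (Q : Subgroup G) :=
      this ▸ Subgroup.mem_inf.2 ⟨Subgroup.mem_zpowers _, hN⟩
    exact (Subgroup.mem_inf.1 h1).2
  · have h20 : c ^ 20 = 1 := by
      rw [show c ^ 20 = (c ^ 5) ^ 4 by rw [← pow_mul]]; exact center_pow_four h hM hz
    rw [← pow_add, show 16 + 5 = 20 + 1 by rfl, pow_succ, h20, one_mul]

/-- The order of the normaliser of a Sylow subgroup of order five. -/
theorem exists_card_normalizer_five (h25 : ¬ 5 ^ 2 ∣ Nat.card G) (h5 : 5 ∣ Nat.card G)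
    [Fact (Nat.Prime 5)] (Q : Sylow 5 G) :
    Nat.card Q = 5 ∧ ∃ e : ℕ, e ∣ 4 ∧
      Nat.card G = 5 * Nat.card H * e * Nat.card (Sylow 5 G) := by
  classical
  have hQ : Nat.card Q = 5 := by
    rw [Q.card_eq_multiplicity]
    have h1 : (Nat.card G).factorization 5 = 1 := by
      have a1 := (Nat.prime_five.pow_dvd_iff_le_factorization (k := 1) Nat.card_pos.ne').1
        (by rwa [pow_one])
      have a2 := mt (Nat.prime_five.pow_dvd_iff_le_factorization (k := 2) Nat.card_pos.ne').2 h25
      omega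
    rw [h1, pow_one]
  refine ⟨hQ, ?_⟩
  obtain ⟨g, hg⟩ := exists_prime_orderOf_dvd_card' 5 (dvd_of_eq hQ.symm)
  set N := Subgroup.normalizer ((Q : Subgroup G) : Set G) with hN
  set f := (Q : Subgroup G).normalizerMonoidHom with hf
  haveI : IsCyclic (Q : Subgroup G) := isCyclic_of_prime_card (p := 5) hQ
  have hrange : Nat.card f.range ∣ 4 := by
    refine (Subgroup.card_subgroup_dvd_card f.range).trans (dvd_of_eq ?_)
    rw [IsCyclic.card_mulAut, hQ, Nat.totient_prime Nat.prime_five]
  have hker : Nat.card f.ker = 5 * Nat.card H := by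
    have hcomm : ∀ q ∈ (Q : Subgroup G), ∀ z ∈ H,
        q * z ∈ Subgroup.centralizer ((Q : Subgroup G) : Set G) := fun q hq z hz =>
      mul_mem (fun y hy => congrArg Subtype.val
          (IsCyclic.commGroup.mul_comm (⟨y, hy⟩ : (Q : Subgroup G)) ⟨q, hq⟩))
        (fun y _ => Subgroup.mem_center_iff.1 (h.central_le hz) y)
    rw [hf, Subgroup.normalizerMonoidHom_ker,
      Nat.card_congr (Subgroup.subgroupOfEquivOfLe
        (Subgroup.centralizer_le_normalizer ((Q : Subgroup G) : Set G))).toEquiv]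
    refine Eq.trans ?_ (congrArg (fun k => k * Nat.card H) hQ)
    rw [← Nat.card_prod]
    refine (Nat.card_congr (Equiv.ofBijective
      (fun x : ↥(Q : Subgroup G) × H => (⟨(x.1 : G) * x.2, hcomm _ x.1.2 _ x.2.2⟩ :
        ↥(Subgroup.centralizer ((Q : Subgroup G) : Set G)))) ⟨?_, ?_⟩)).symm
    · rintro ⟨q, z⟩ ⟨q', z'⟩ e
      have e' : (q : G) * z = q' * z' := congrArg Subtype.val e
      have e2 : (q' : G)⁻¹ * q = z' * (z : G)⁻¹ := by
        rw [eq_mul_inv_iff_mul_eq, mul_assoc, e', inv_mul_cancel_left]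
      have h4 : ((q' : G)⁻¹ * q) = 1 := by
        refine orderOf_eq_one_iff.1 (Nat.eq_one_of_dvd_coprimes (a := 5) (b := 4) (by norm_num)
          ?_ ?_)
        · exact (Subgroup.orderOf_dvd_natCard (Q : Subgroup G)
            (mul_mem (inv_mem q'.2) q.2)).trans (dvd_of_eq hQ)
        · rw [e2]; exact orderOf_dvd_four h hM (mul_mem z'.2 (inv_mem z.2))
      have hq : q = q' := Subtype.ext (inv_mul_eq_one.1 h4).symm
      subst hq
      exact Prod.ext rfl (Subtype.ext (mul_left_cancel e'))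
    · rintro ⟨c, hc⟩
      obtain ⟨q, hq, z, hz, rfl⟩ := exists_mul_five h hft hM h25 Q g.2
        (by rw [Subgroup.orderOf_coe]; exact hg) hc
      exact ⟨(⟨q, hq⟩, ⟨z, hz⟩), rfl⟩
  refine ⟨Nat.card f.range, hrange, ?_⟩
  have h1 : Nat.card N = 5 * Nat.card H * Nat.card f.range := by
    rw [← hker, ← f.ker.card_mul_index, Subgroup.index_ker]
  rw [Q.card_eq_index_normalizer, ← h1]
  exact (Subgroup.card_mul_index N).symm

/-- The inequality from the second and fourth moments. -/
theorem moment_ineq [Fact (Nat.Prime 5)] (hQ : ∀ Q : Sylow 5 G, Nat.card Q = 5) :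
    392 * Nat.card (Sylow 5 G) * Nat.card H ≤ 39 * Nat.card G + 112 * Nat.card H := by
  classical
  set y : G → ℝ := fun g => Complex.normSq ((χ : G → ℂ) g) with hy
  have hyC : ∀ g, (y g : ℂ) = (χ : G → ℂ) g * conj ((χ : G → ℂ) g) := fun g => by
    rw [Complex.mul_conj]
  have hsum1 : ∑ g, y g = (Nat.card G : ℝ) := by
    have e := H12.sum_mul_conj_eq_card_mul (χ : G → ℂ) χ
    rw [H12.classInner_irr_self, mul_one] at e
    simp only [Complex.mul_conj, ← Complex.ofReal_sum] at e
    exact_mod_cast e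
  have hsum2 : 2 * (Nat.card G : ℝ) ≤ ∑ g, y g ^ 2 := by
    set F : G → ℂ := fun g => (χ : G → ℂ) g * conj ((χ : G → ℂ) g) with hFdef
    have hF : IsCharacter G F :=
      H12.IsCharacter.mul (H12.isCharacter_irr χ) (H12.IsCharacter.star (H12.isCharacter_irr _))
    obtain ⟨n, hn⟩ := H12.IsCharacter.classInner_nat hF hF
    have hn2 : 2 ≤ n := by
      by_contra hlt
      interval_cases n
      · rw [Nat.cast_zero, H12.classInner_self_eq_zero_iff] at hn
        have := congrFun hn 1
        simp [hFdef, H12.irr_apply_one, h.degree_eq] at this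
      · rw [Nat.cast_one] at hn
        set i : IrrCharacter G := ⟨F, H12.isIrrCharacter_of_classInner_self_eq_one hF hn⟩
        have h1 : classInner (i : G → ℂ) (H12.oneIrr G : G → ℂ) = 1 := by
          rw [← H12.classInner_irr_self χ]
          simp only [i, H12.classInner_def, hFdef, H12.oneIrr_apply, map_one, mul_one]
        have he : i = H12.oneIrr G := by
          by_contra hne
          rw [H12.classInner_irr_ne hne] at h1
          exact zero_ne_one h1
        have h2 := congrArg (fun j : IrrCharacter G => (j : G → ℂ) 1) he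
        simp [i, hFdef, H12.irr_apply_one, h.degree_eq, H12.oneIrr_apply] at h2
        norm_num [map_ofNat] at h2
    have e := H12.sum_mul_conj_eq_card_mul F F
    rw [hn] at e
    have e2 : ((∑ g, y g ^ 2 : ℝ) : ℂ) = (((Nat.card G : ℝ) * n : ℝ) : ℂ) := by
      push_cast
      rw [← e]
      refine Finset.sum_congr rfl fun g _ => ?_
      rw [hyC, hFdef, map_mul, Complex.conj_conj]
      ring
    have e3 : ∑ g, y g ^ 2 = (Nat.card G : ℝ) * n := by exact_mod_cast e2
    rw [e3, mul_comm (Nat.card G : ℝ)]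
    exact mul_le_mul_of_nonneg_right (by exact_mod_cast hn2) (Nat.cast_nonneg _)
  -- the singular elements
  set S := Finset.univ.filter fun g : G => p ∣ orderOf g with hS
  have hScard : 21 * (S.card : ℝ) = 6 * (Nat.card G : ℝ) := by
    have h1 := sum_singular D h.central_le (F := fun _ => (1 : ℝ)) (fun _ _ => rfl)
      fun _ _ _ _ => rfl
    rw [h.card_aut, Finset.sum_const, Finset.sum_const, ← hS,
      Finset.card_erase_of_mem (Finset.mem_univ _), Finset.card_univ, ← Nat.card_eq_fintype_card,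
      D.hP, nsmul_one, nsmul_one] at h1
    rw [← hft] at h1
    norm_num at h1
    rw [Nat.card_eq_fintype_card]
    linarith
  have hyS : ∀ g ∈ S, y g = 2 := by
    intro g hg
    obtain ⟨x₀, hx₀, hx₀1, k₀, hk₀, hconj⟩ :=
      D.exists_isConj_singular (Finset.mem_filter.1 hg).2
    have e : (χ : G → ℂ) g = (χ : G → ℂ) (x₀ * k₀) := by
      obtain ⟨t, ht⟩ := isConj_iff.1 hconj
      rw [← ht, H12.irr_isClassFunction χ]
    have h1 := normSq_mul_center h hM x₀ ⟨k₀, hk₀⟩
    have h2 := normSq_P h hft ⟨x₀, hx₀⟩ fun h' => hx₀1 (congrArg Subtype.val h')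
    have h3 : ((y g : ℝ) : ℂ) = ((2 : ℝ) : ℂ) := by
      rw [hyC, e]
      push_cast
      exact h1.trans h2
    exact_mod_cast h3
  -- the elements with five dividing the order
  haveI : ∀ Q : Sylow 5 G, Fintype {q : (Q : Subgroup G) // q ≠ 1} := fun _ => Fintype.ofFinite _
  haveI : Fintype (Sylow 5 G) := Fintype.ofFinite _
  let ι : (Σ Q : Sylow 5 G, {q : (Q : Subgroup G) // q ≠ 1}) × H → G :=
    fun x => ((x.1.2.1 : G)) * (x.2 : G)
  have hq5 : ∀ (Q : Sylow 5 G) (q : (Q : Subgroup G)), q ≠ 1 → orderOf (q : G) = 5 := by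
    intro Q q hq
    rw [Subgroup.orderOf_coe]
    rcases (Nat.dvd_prime Nat.prime_five).1 (hQ Q ▸ orderOf_dvd_natCard q) with h1 | h1
    · exact absurd (orderOf_eq_one_iff.1 h1) hq
    · exact h1
  have h16 : ∀ (g : G) (z : H), orderOf g = 5 → (g * z) ^ 16 = g := by
    intro g z hg
    have hc : Commute g (z : G) := Subgroup.mem_center_iff.1 (h.central_le z.2) g
    rw [hc.mul_pow, show 16 = 4 * 4 by rfl, pow_mul (z : G),
      center_pow_four h hM z.2, one_pow, mul_one]
    conv_rhs => rw [← pow_one g]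
    rw [pow_eq_pow_iff_modEq, hg]
    decide
  have hιinj : Function.Injective ι := by
    rintro ⟨⟨Q, q, hq⟩, z⟩ ⟨⟨Q', q', hq'⟩, z'⟩ e
    have e' : (q : G) * z = q' * z' := e
    have hqq : (q : G) = q' := by
      rw [← h16 _ z (hq5 Q q hq), e', h16 _ z' (hq5 Q' q' hq')]
    have hQQ : Q = Q' := by
      refine Sylow.ext ?_
      have h1 : Subgroup.zpowers (q : G) = (Q : Subgroup G) :=
        Subgroup.eq_of_le_of_card_ge (Subgroup.zpowers_le.2 q.2)
          (by rw [Nat.card_zpowers, hq5 Q q hq, hQ])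
      have h2 : Subgroup.zpowers (q' : G) = (Q' : Subgroup G) :=
        Subgroup.eq_of_le_of_card_ge (Subgroup.zpowers_le.2 q'.2)
          (by rw [Nat.card_zpowers, hq5 Q' q' hq', hQ])
      rw [← h1, ← h2, hqq]
    subst hQQ
    have hq2 : q = q' := Subtype.ext hqq
    subst hq2
    exact Prod.ext rfl (Subtype.ext (mul_left_cancel e'))
  set T := (Finset.univ : Finset _).image ι with hT
  have hTcard : T.card = 4 * Nat.card (Sylow 5 G) * Nat.card H := by
    rw [hT, Finset.card_image_of_injective _ hιinj, Finset.card_univ, Fintype.card_prod,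
      Fintype.card_sigma, ← Nat.card_eq_fintype_card (α := H)]
    congr 1
    rw [Finset.sum_congr rfl (g := fun _ => 4) fun Q _ => by
      rw [← Nat.card_eq_fintype_card]
      have h1 : Nat.card {q : (Q : Subgroup G) // q ≠ 1} + 1 = Nat.card Q := by
        haveI : Fintype (Q : Subgroup G) := Fintype.ofFinite _
        rw [Nat.card_eq_fintype_card, Nat.card_eq_fintype_card, Fintype.card_subtype_compl,
          Fintype.card_subtype_eq]
        have := Fintype.card_pos (α := (Q : Subgroup G))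
        omega
      rw [hQ Q] at h1
      omega, Finset.sum_const, Finset.card_univ, smul_eq_mul, Nat.card_eq_fintype_card,
      mul_comm]
  have hyT : ∀ g ∈ T, y g = 1 ∧ ¬ p ∣ orderOf g ∧ g ∉ H := by
    intro g hg
    obtain ⟨⟨⟨Q, q, hq⟩, z⟩, -, rfl⟩ := Finset.mem_image.1 hg
    have ho := hq5 Q q hq
    refine ⟨?_, fun hd => ?_, fun hH => ?_⟩
    · have h1 := normSq_mul_center h hM (q : G) z
      rw [apply_five h hft hM ho] at h1
      have h3 : ((y (ι (⟨Q, q, hq⟩, z)) : ℝ) : ℂ) = ((1 : ℝ) : ℂ) := by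
        rw [hyC]
        refine h1.trans ?_
        simp
      exact_mod_cast h3
    · exact not_dvd_of_commute h hft hM ho
        ((Commute.refl (q : G)).mul_right (Subgroup.mem_center_iff.1 (h.central_le z.2) _)) hd
    · have h1 : (q : G) ∈ H := by
        have := H.mul_mem hH (H.inv_mem z.2)
        simpa [ι, mul_inv_cancel_right] using this
      have := orderOf_dvd_four h hM h1
      rw [ho] at this
      norm_num at this
  -- the pointwise bound
  have hpt : ∀ g, y g ^ 2 - 15 * y g ≤ (if g ∈ H then (16 : ℝ) else 0) +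
      (if g ∈ S then (-26 : ℝ) else 0) + (if g ∈ T then (-14 : ℝ) else 0) := by
    intro g
    by_cases hgH : g ∈ H
    · have h1 : g ∉ S := fun hs => D.not_dvd_orderOf hgH (Finset.mem_filter.1 hs).2
      have h2 : g ∉ T := fun ht => (hyT g ht).2.2 hgH
      rw [if_pos hgH, if_neg h1, if_neg h2]
      have h3 := normSq_mul_center h hM 1 ⟨g, hgH⟩
      rw [one_mul] at h3
      have h4 : ((y g : ℝ) : ℂ) = ((16 : ℝ) : ℂ) := by
        rw [hyC]
        refine h3.trans ?_
        rw [H12.irr_apply_one, h.degree_eq, map_natCast]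
        norm_num
      have h5 : y g = 16 := by exact_mod_cast h4
      rw [h5]; norm_num
    rw [if_neg hgH]
    by_cases hgS : g ∈ S
    · have h2 : g ∉ T := fun ht => (hyT g ht).2.1 (Finset.mem_filter.1 hgS).2
      rw [if_pos hgS, if_neg h2, hyS g hgS]; norm_num
    rw [if_neg hgS]
    by_cases hgT : g ∈ T
    · rw [if_pos hgT, (hyT g hgT).1]; norm_num
    rw [if_neg hgT]
    obtain ⟨z, hz, hz0, hz15⟩ := exists_normSq h hft hM (g := g)
      fun hd => hgS (Finset.mem_filter.2 ⟨Finset.mem_univ _, hd⟩)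
    have h1 : y g = (z : ℝ) := by
      have : ((y g : ℝ) : ℂ) = (((z : ℤ) : ℝ) : ℂ) := by rw [hyC, hz]; push_cast; rfl
      exact_mod_cast this
    have h2 : (z : ℝ) ≤ 15 := by exact_mod_cast hz15 hgH
    have h3 : (0 : ℝ) ≤ z := by exact_mod_cast hz0
    rw [h1]
    nlinarith
  set HF := Finset.univ.filter fun g : G => g ∈ H with hHF
  have hHc : (HF.card : ℝ) = Nat.card H := by
    rw [hHF, Nat.card_eq_fintype_card, Fintype.card_subtype]
  have hpt' : ∀ g, y g ^ 2 - 15 * y g ≤ (if g ∈ HF then (16 : ℝ) else 0) +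
      (if g ∈ S then (-26 : ℝ) else 0) + (if g ∈ T then (-14 : ℝ) else 0) := fun g => by
    refine (hpt g).trans (le_of_eq ?_)
    simp only [hHF, Finset.mem_filter, Finset.mem_univ, true_and]
  have htot := Finset.sum_le_sum (s := (Finset.univ : Finset G)) fun g _ => hpt' g
  rw [Finset.sum_sub_distrib, ← Finset.mul_sum, Finset.sum_add_distrib, Finset.sum_add_distrib,
    Finset.sum_ite_mem, Finset.sum_ite_mem, Finset.sum_ite_mem, Finset.univ_inter,
    Finset.univ_inter, Finset.univ_inter, Finset.sum_const, Finset.sum_const, Finset.sum_const,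
    hsum1] at htot
  simp only [nsmul_eq_mul] at htot
  rw [hHc, hTcard] at htot
  push_cast at htot
  have : (392 * (Nat.card (Sylow 5 G)) * Nat.card H : ℝ) ≤
      39 * Nat.card G + 112 * Nat.card H := by nlinarith
  exact_mod_cast this

/-- Five dividing the number of Sylow subgroups forces one hundred and twenty of them. -/
theorem card_sylow_of_five (h5 : 5 ∣ Nat.card (Sylow p G)) : Nat.card (Sylow p G) = 120 := by
  classical
  haveI : Fact (Nat.Prime 5) := ⟨Nat.prime_five⟩
  have hd := card_sylow_dvd h hft hM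
  set N := Nat.card (Sylow p G) with hN
  have hG := card_eq h hft
  have h25 : ¬ 5 ^ 2 ∣ Nat.card G := by
    intro h2
    rw [hG] at h2
    have h3 : Nat.Coprime (5 ^ 2) (21 * Nat.card H) := by
      refine Nat.Coprime.mul_right (by norm_num) ?_
      obtain ⟨k, hk⟩ := IsPGroup.iff_card.1 (isPGroup_center h hM)
      rw [hk]
      exact Nat.Coprime.pow 2 k (by norm_num : Nat.Coprime 5 2)
    have h4 := (h3.dvd_of_dvd_mul_left h2).trans hd
    norm_num at h4
  have h5G : 5 ∣ Nat.card G := by rw [hG]; exact dvd_mul_of_dvd_right h5 _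
  have hQ : ∀ Q : Sylow 5 G, Nat.card Q = 5 := fun Q =>
    (exists_card_normalizer_five h hft hM h25 h5G Q).1
  obtain ⟨Q⟩ : Nonempty (Sylow 5 G) := inferInstance
  obtain ⟨-, e, he, hGe⟩ := exists_card_normalizer_five h hft hM h25 h5G Q
  have hineq := moment_ineq h hft hM hQ
  have hmod : Nat.card (Sylow 5 G) % 5 = 1 := card_sylow_modEq_one 5 G
  have hNp : N % 7 = 1 := by
    have h1 : N % p = 1 % p := card_sylow_modEq_one p G
    rw [← hft] at h1
    exact h1
  set n5 := Nat.card (Sylow 5 G)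
  have hHpos : 0 < Nat.card H := Nat.card_pos
  rw [hG] at hineq hGe
  have hrel : 21 * N = 5 * e * n5 := by
    refine Nat.eq_of_mul_eq_mul_left hHpos ?_
    linear_combination hGe
  have hin : 392 * n5 ≤ 819 * N + 112 := by
    refine Nat.le_of_mul_le_mul_left ?_ hHpos
    linarith
  obtain ⟨x, y, hx, hy, hxy⟩ := Nat.dvd_mul.1 hd
  obtain ⟨i, hi, rfl⟩ := (Nat.dvd_prime_pow Nat.prime_two).1 hx
  have hy' : y = 1 ∨ y = 3 ∨ y = 5 ∨ y = 15 := by
    have hle := Nat.le_of_dvd (by norm_num) hy
    interval_cases y <;> omega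
  have he' : e = 1 ∨ e = 2 ∨ e = 4 := by
    have hle := Nat.le_of_dvd (by norm_num) he
    interval_cases e <;> omega
  refine arith_five ⟨i, by omega⟩ y ?_ e ?_ N hxy.symm hNp h5 ?_ ?_ ?_
  · simp only [List.mem_cons, List.not_mem_nil, or_false]; exact hy'
  · simp only [List.mem_cons, List.not_mem_nil, or_false]; exact he'
  · exact ⟨n5, hrel⟩
  · rw [hrel, Nat.mul_div_cancel_left _ (by rcases he' with rfl | rfl | rfl <;> norm_num)]
    exact hmod
  · rw [hrel, Nat.mul_div_cancel_left _ (by rcases he' with rfl | rfl | rfl <;> norm_num)]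
    exact hin

end H79.SmallPrime
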