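import Cfsg.Agent.H79.SmallPrime.Bound

/-!
The prime seven in degree four: when five does not divide the order, the exceptional characters
of the principal block have degree three.
-/

set_option autoImplicit false
set_option linter.style.haveILetI false
set_option linter.unusedSectionVars false

open Cfsg
open scoped ComplexConjugate

namespace H79.SmallPrime

open H85.D1 H15.HalfDeg H15.Degree

universe u

variable {G : Type u} [Group G] [Fintype G] {p : ℕ} [hp : Fact p.Prime]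
  {P : Sylow p G} {u a : G} {H : Subgroup G} [Fintype H] [Fintype (P : Subgroup G)]
  {D : Setting P u a H} [Fintype (D.aut (H12.oneIrr H))]
  {χ : IrrCharacter G} {θ : IrrCharacter H} {ψ : (P : Subgroup G) →* ℂˣ}
  (h : Neg D 3 4 χ θ ψ) (hft : 3 * 2 + 1 = p) {M : Ideal AlgInt} [M.IsPrime]
  (hM : IsPModular p M)

include h hft hM

/-- Without five, the group modulo its centre is `PSL(2, 7)`. -/
theorem psl_of_no_five (hgen : Subgroup.closure {g : G | g ^ p = 1} = ⊤)
    (h5 : ¬ 5 ∣ Nat.card (Sylow p G)) :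
    Nonempty ((G ⧸ Subgroup.center G) ≃* Matrix.ProjectiveSpecialLinearGroup (Fin 2) (ZMod p)) := by
  classical
  have hp7 : p = 7 := by omega
  have hN3 : Nat.card (Sylow p G) ∣ 2 ^ 12 * 3 := by
    have hd := card_sylow_dvd h hft hM
    rw [show 2 ^ 12 * 15 = (2 ^ 12 * 3) * 5 by norm_num] at hd
    exact ((Nat.Prime.coprime_iff_not_dvd Nat.prime_five).2 h5).symm.dvd_of_dvd_mul_right hd
  have hN : Nat.card (Sylow p G) ∣ 2 ^ 12 := by
    obtain ⟨x, y, hx, hy, hxy⟩ := Nat.dvd_mul.1 hN3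
    obtain ⟨i, hi, rfl⟩ := (Nat.dvd_prime_pow Nat.prime_two).1 hx
    have hmod : Nat.card (Sylow p G) % p = 1 % p := card_sylow_modEq_one p G
    rw [← hxy, hp7] at hmod
    rcases (Nat.dvd_prime Nat.prime_three).1 hy with rfl | rfl
    · rw [← hxy, mul_one]; exact pow_dvd_pow 2 hi
    · interval_cases i <;> omega
  obtain ⟨j, -, hj⟩ := exists_j h hft
  have hdeg : ∀ (i : IrrCharacter G), i ∈ D.supp (H12.oneIrr H) →
      ¬ 7 ∣ H12.degree (i : G → ℂ) →
      ∃ e ≤ 12, H12.degree (i : G → ℂ) = 2 ^ e ∨ H12.degree (i : G → ℂ) = 3 * 2 ^ e := by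
    intro i hi h7
    have h1 := dvd_index h hft hM hi hj
    rw [← hj, show 3 * p * Nat.card (Sylow p G) = 7 * (3 * Nat.card (Sylow p G)) by rw [hp7]; ring]
      at h1
    have h2 : H12.degree (i : G → ℂ) ∣ 3 * 2 ^ 12 :=
      (((Nat.Prime.coprime_iff_not_dvd (by norm_num)).2 h7).symm.dvd_of_dvd_mul_left h1).trans
        (Nat.mul_dvd_mul_left 3 hN)
    obtain ⟨x, y, hx, hy, hxy⟩ := Nat.dvd_mul.1 h2
    obtain ⟨e, he, rfl⟩ := (Nat.dvd_prime_pow Nat.prime_two).1 hy
    refine ⟨e, he, ?_⟩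
    rcases (Nat.dvd_prime Nat.prime_three).1 hx with rfl | rfl
    · exact Or.inl (by rw [← hxy, one_mul])
    · exact Or.inr hxy.symm
  obtain ⟨Φ⟩ := h.exists_fam hft hM (H12.oneIrr H)
  have h1l := one_mem_lab (p := p) hft
  have hYmod : ∀ A ∈ lab (p := p) 2, H12.degree (Φ.Y A : G → ℂ) % 7 = 3 ∨
      H12.degree (Φ.Y A : G → ℂ) % 7 = 4 := fun A hA => by
    obtain ⟨s, -, hs⟩ := Fam.degree_Y h hft Φ hA
    rw [show (p : ℤ) = 7 by omega] at hs
    rcases Φ.δ_eq with e | e <;> rw [e] at hs <;> omega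
  set u₁ : (P : Subgroup G) := ⟨u, D.u_mem⟩ with hu₁
  have hu1 : u₁ ≠ 1 := fun h' => D.u_ne_one (congrArg Subtype.val h')
  have hone : H12.oneIrr G ∈ Φ.X := by
    obtain ⟨φ', hφ'⟩ := exists_supp_of_ne_zero D h.central_le hu1
      (χ := H12.oneIrr G) (by rw [H12.oneIrr_apply]; exact one_ne_zero)
    have he : φ' = H12.oneIrr H := Subtype.ext (funext fun x => by
      have h1 := apply_center D h.central_le hM hφ' x
      have h2 := H12.irr_apply_one (H12.oneIrr G)
      rw [H12.oneIrr_apply] at h1 h2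
      rw [← h2, mul_one] at h1
      rw [H12.oneIrr_apply]; exact h1.symm)
    rcases (Φ.mem_supp _).1 (he ▸ hφ') with hX | ⟨A, hA, hAe⟩
    · exact hX
    · exfalso
      have h1 := hYmod A hA
      have h2 : H12.degree (Φ.Y A : G → ℂ) = 1 := by
        have h3 := H12.irr_apply_one (Φ.Y A)
        rw [hAe, H12.oneIrr_apply] at h3
        rw [hAe]
        exact_mod_cast h3.symm
      omega
  have hone1 : H12.degree (H12.oneIrr G : G → ℂ) = 1 := by
    have h3 := H12.irr_apply_one (H12.oneIrr G)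
    rw [H12.oneIrr_apply] at h3
    exact_mod_cast h3.symm
  have heven : ∀ i ∈ Φ.X.erase (H12.oneIrr G), 2 ∣ H12.degree (i : G → ℂ) := by
    intro i hi
    obtain ⟨hne, hiX⟩ := Finset.mem_erase.1 hi
    obtain ⟨s, -, hs⟩ := Fam.degree_X h hft Φ hiX
    rw [show (p : ℤ) = 7 by omega] at hs
    have hmod : H12.degree (i : G → ℂ) % 7 = 1 ∨ H12.degree (i : G → ℂ) % 7 = 6 := by
      rcases Φ.εX_eq i hiX with e | e <;> rw [e] at hs <;> omega
    obtain ⟨e, he, hd⟩ := hdeg i ((Φ.mem_supp i).2 (Or.inl hiX)) (by omega)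
    rcases Nat.eq_zero_or_pos e with rfl | he0
    · exfalso
      rw [pow_zero, mul_one] at hd
      rcases hd with hd | hd
      · obtain ⟨l, hl⟩ := H12.exists_monoidHom_of_apply_one_eq_one (H12.isCharacter_irr i)
          (by rw [H12.irr_apply_one, hd, Nat.cast_one])
        exact hne (Subtype.ext (funext fun y => by
          rw [H12.oneIrr_apply, ← congrFun hl y, h.perfect l]; simp))
      · omega
    · have h2 : (2 : ℕ) ∣ 2 ^ e := dvd_pow_self 2 he0.ne'
      rcases hd with hd | hd <;> rw [hd]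
      · exact h2
      · exact dvd_mul_of_dvd_right h2 3
  have hrel := Fam.degree_rel h hft Φ
  have hc2 : (Φ.X.erase (H12.oneIrr G)).card = 2 := by
    rw [Finset.card_erase_of_mem hone, Φ.card_X]
  obtain ⟨i₀, j₀, hij₀, hX₀⟩ := Finset.card_eq_two.1 hc2
  rw [← Finset.add_sum_erase _ _ hone, hX₀, Finset.sum_pair hij₀, hone1] at hrel
  have hi₀ := heven i₀ (hX₀ ▸ Finset.mem_insert_self _ _)
  have hj₀ := heven j₀ (hX₀ ▸ Finset.mem_insert_of_mem (Finset.mem_singleton_self _))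
  have hm := hYmod 1 h1l
  obtain ⟨e, he, hd⟩ := hdeg (Φ.Y 1) ((Φ.mem_supp _).2 (Or.inr ⟨1, h1l, rfl⟩)) (by omega)
  have hodd : H12.degree (Φ.Y 1 : G → ℂ) % 2 = 1 := by
    rcases Φ.δ_eq with eδ | eδ <;> rcases Φ.εX_eq _ hone with e1 | e1 <;>
      rcases Φ.εX_eq i₀ (Finset.mem_of_mem_erase (hX₀ ▸ Finset.mem_insert_self _ _)) with e2 | e2 <;>
      rcases Φ.εX_eq j₀ (Finset.mem_of_mem_erase
        (hX₀ ▸ Finset.mem_insert_of_mem (Finset.mem_singleton_self _))) with e3 | e3 <;>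
      rw [eδ, e1, e2, e3] at hrel <;> omega
  rcases Nat.eq_zero_or_pos e with rfl | he0
  · rw [pow_zero, mul_one] at hd
    have h3 : H12.degree (Φ.Y 1 : G → ℂ) = 3 := by omega
    exact psl_of_small h hft hM hgen (Φ.Y 1) h3
  · exfalso
    have h2 : (2 : ℕ) ∣ 2 ^ e := dvd_pow_self 2 he0.ne'
    rcases hd with hd | hd <;> omega

end H79.SmallPrime
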