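import Cfsg.Agent.H79.SmallPrime.Five
import Cfsg.Agent.H79.SmallPrime.NoFive
import Cfsg.Agent.H79.SmallPrime.Reduce
import Cfsg.Agent.S0984

/-!
A group with a faithful irreducible character of degree four and a non-normal Sylow subgroup of
order seven is `PSL(2, 7)` or the alternating group of degree seven modulo its centre.
-/

set_option autoImplicit false
set_option linter.style.haveILetI false
set_option linter.unusedSectionVars false

open Cfsg

namespace H79.SmallPrime

open H85.D1 H15.HalfDeg H15.Degree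

universe u

section Simple

variable {G : Type u} [Group G] [Fintype G] {p : ℕ} [hp : Fact p.Prime]
  {P : Sylow p G} {u a : G} {H : Subgroup G} [Fintype H] [Fintype (P : Subgroup G)]
  {D : Setting P u a H} [Fintype (D.aut (H12.oneIrr H))]
  {χ : IrrCharacter G} {θ : IrrCharacter H} {ψ : (P : Subgroup G) →* ℂˣ}
  (h : Neg D 3 4 χ θ ψ) (hft : 3 * 2 + 1 = p) {M : Ideal AlgInt} [M.IsPrime]
  (hM : IsPModular p M)

include h hft hM

/-- The group modulo its centre is simple. -/
theorem isSimple_quotient (hgen : Subgroup.closure {g : G | g ^ p = 1} = ⊤) :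
    IsSimpleGroup (G ⧸ Subgroup.center G) := by
  have huZ : u ∉ Subgroup.center G := fun hu =>
    h.not_normal ⟨fun x hx g => by
      rw [← D.zpowers_u] at hx
      rw [Subgroup.mem_center_iff.1 (Subgroup.zpowers_le.2 hu hx) g, mul_inv_cancel_right]
      rw [← D.zpowers_u]; exact hx⟩
  haveI : Nontrivial (G ⧸ Subgroup.center G) :=
    ⟨⟨(u : G ⧸ Subgroup.center G), 1, fun e => huZ ((QuotientGroup.eq_one_iff u).1 e)⟩⟩
  refine ⟨fun N hN => ?_⟩
  set π := QuotientGroup.mk' (Subgroup.center G) with hπ
  have hπs : Function.Surjective π := QuotientGroup.mk'_surjective _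
  set K := N.comap π with hK
  haveI : K.Normal := hN.comap π
  by_cases hu : u ∈ K
  · right
    have hle : Subgroup.closure {g : G | g ^ p = 1} ≤ K := by
      rw [Subgroup.closure_le]
      intro g hg
      by_cases hg1 : g = 1
      · rw [hg1]; exact K.one_mem
      obtain ⟨z, hz, hconj⟩ := H20.FreeSylow.exists_isConj_mem (P := P) (y := g)
        ⟨1, by rw [pow_one]; exact orderOf_eq_prime hg hg1⟩
      obtain ⟨t, ht⟩ := isConj_iff.1 hconj.symm
      have hzK : z ∈ K := Subgroup.zpowers_le.2 hu (by rw [D.zpowers_u]; exact hz)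
      exact ht ▸ (inferInstance : K.Normal).conj_mem z hzK t
    rw [hgen, top_le_iff] at hle
    rw [← Subgroup.map_comap_eq_self_of_surjective hπs N, ← hK, hle,
      Subgroup.map_top_of_surjective π hπs]
  · left
    have hle := normal_le h hft hM hgen K hu
    rw [h.center_eq] at hle
    rw [← Subgroup.map_comap_eq_self_of_surjective hπs N, ← hK, Subgroup.map_eq_bot_iff]
    rw [QuotientGroup.ker_mk']
    exact hle

/-- The two possibilities for the perfect group modulo its centre. -/
theorem seven_perfect (hgen : Subgroup.closure {g : G | g ^ p = 1} = ⊤) :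
    Nonempty ((G ⧸ Subgroup.center G) ≃* Matrix.ProjectiveSpecialLinearGroup (Fin 2) (ZMod p)) ∨
      Nonempty ((G ⧸ Subgroup.center G) ≃* ↥(alternatingGroup (Fin 7))) := by
  by_cases h5 : 5 ∣ Nat.card (Sylow p G)
  · right
    haveI := isSimple_quotient h hft hM hgen
    refine Cfsg.Agent.S0984.result (G := G ⧸ Subgroup.center G) ?_
    have h1 : H.index = 3 * p * Nat.card (Sylow p G) := index_eq h hft
    rw [card_sylow_of_five h hft hM h5, ← hft] at h1
    rw [← Subgroup.index_eq_card, ← h.center_eq, h1]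
  · exact Or.inl (psl_of_no_five h hft hM hgen h5)

end Simple

/-- Degree four at the prime seven. -/
theorem seven {A : Type u} [Group A] [Finite A] (p : ℕ) [Fact p.Prime] (hp : p = 7)
    (P : Sylow p A) (hP : Nat.card P = p) (hnn : ¬ (P : Subgroup A).Normal) (ζ : A → ℂ)
    (hζ : Cfsg.IsIrrCharacter A ζ) (hfaith : ∀ g : A, ζ g = ζ 1 → g = 1)
    (hdeg : H12.degree ζ = 4) :
    Nonempty ((A ⧸ Subgroup.center A) ≃* Matrix.ProjectiveSpecialLinearGroup (Fin 2) (ZMod 7)) ∨
      Nonempty ((A ⧸ Subgroup.center A) ≃* ↥(alternatingGroup (Fin 7))) := by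
  obtain ⟨L, iL, P', iP, u, a, H, iH, D, M, iM, hM, iD, χ, θ, ψ, h, hgen, ⟨e⟩⟩ :=
    exists_seven_data hp P hP hnn ζ hζ hfaith hdeg
  subst hp
  have hft : 3 * 2 + 1 = 7 := by norm_num
  rcases seven_perfect h hft hM hgen with hf | hf
  · exact Or.inl (hf.map e.symm.trans)
  · exact Or.inr (hf.map e.symm.trans)

end H79.SmallPrime
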