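import Cfsg.Agent.H14.Deg16.Blocks
import Cfsg.Agent.H15.Degree.Two
import Cfsg.Agent.H79.SmallPrime.Cyclic

/-!
The prime seven in degree four: Galois invariance of the faithful character on regular elements,
integrality of its squared absolute value, and the possible values at elements of prime power
order.
-/

set_option autoImplicit false
set_option linter.style.haveILetI false
set_option linter.unusedSectionVars false

open Cfsg
open scoped ComplexConjugate

namespace H79.SmallPrime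

open H85.D1 H15.HalfDeg H15.Degree

universe u

variable {G : Type u} [Group G] [Fintype G] {p : ℕ} [hp : Fact p.Prime]
  {P : Sylow p G} {u a : G} {H : Subgroup G} [Fintype H] [Fintype (P : Subgroup G)]
  {D : Setting P u a H} [Fintype (D.aut (H12.oneIrr H))]
  {χ : IrrCharacter G} {θ : IrrCharacter H} {ψ : (P : Subgroup G) →* ℂˣ}
  (h : Neg D 3 4 χ θ ψ) (hft : 3 * 2 + 1 = p) {M : Ideal AlgInt} [M.IsPrime]
  (hM : IsPModular p M)

include h hft hM

omit hft in
/-- The labelling character takes fourth roots of unity as values, by the determinant. -/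
theorem theta_pow_four (k : H) : (θ : H → ℂ) k ^ 4 = 1 ∧ k ^ 4 = 1 := by
  classical
  obtain ⟨d, ρ, hρ, he⟩ := χ.2
  have hdn : d = 4 := by
    rw [← h.degree_eq, ← he, H12.degree_character, Module.finrank_fintype_fun_eq_card,
      Fintype.card_fin]
  subst hdn
  have hχk := apply_center D h.central_le hM h.mem_supp k
  rw [h.degree_eq] at hχk
  have hnorm : ‖ρ.character (k : G)‖ = (Module.finrank ℂ (Fin 4 → ℂ) : ℝ) := by
    rw [he, hχk, norm_mul, norm_lin D h.central_le θ k, one_mul, Complex.norm_natCast,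
      Module.finrank_fintype_fun_eq_card, Fintype.card_fin]
  obtain ⟨c, hc⟩ := H12.exists_scalar_of_norm_eq ρ (k : G) hnorm
  have hd0 : ((4 : ℕ) : ℂ) ≠ 0 := by norm_num
  have hcθ : c = (θ : H → ℂ) k := by
    have h1 : ρ.character (k : G) = c * (4 : ℕ) := by
      show LinearMap.trace ℂ _ (ρ (k : G)) = _
      rw [hc, map_smul, LinearMap.trace_id, smul_eq_mul, Module.finrank_fintype_fun_eq_card,
        Fintype.card_fin]
    rw [he, hχk] at h1
    exact (mul_right_cancel₀ hd0 h1).symm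
  let δ : G →* ℂˣ := MonoidHom.toHomUnits
    ((LinearMap.det : Module.End ℂ (Fin 4 → ℂ) →* ℂ).comp
      (show G →* Module.End ℂ (Fin 4 → ℂ) from ρ))
  have hδ : LinearMap.det (ρ (k : G)) = 1 := by
    have h1 := congrArg (fun l : G →* ℂˣ => ((l (k : G) : ℂˣ) : ℂ)) (h.perfect δ)
    simpa [δ] using h1
  rw [hc, LinearMap.det_smul, LinearMap.det_id, mul_one, Module.finrank_fintype_fun_eq_card,
    Fintype.card_fin, hcθ] at hδ
  refine ⟨hδ, ?_⟩
  refine Subtype.ext (h.faithful _ ?_)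
  rw [apply_center D h.central_le hM h.mem_supp (k ^ 4), H12.irr_apply_one, h.degree_eq]
  obtain ⟨l, hl⟩ := H12.exists_monoidHom_of_apply_one_eq_one (H12.isCharacter_irr θ)
    (lin_one D h.central_le θ)
  rw [← congrFun hl] at hδ ⊢
  rw [map_pow, Units.val_pow_eq_pow_val, hδ, one_mul]

omit hft in
theorem center_pow_four {g : G} (hg : g ∈ H) : g ^ 4 = 1 :=
  congrArg Subtype.val (theta_pow_four h hM ⟨g, hg⟩).2

/-- Powers realised by Galois automorphisms fix the character on regular elements. -/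
theorem apply_pow_of_mod_one {k : ℕ} (hk : Nat.Coprime k (4 * Nat.card G)) (h1 : k % 4 = 1)
    {g : G} (hg : ¬ p ∣ orderOf g) : (χ : G → ℂ) (g ^ k) = (χ : G → ℂ) g := by
  obtain ⟨σ, hσ⟩ := H25.exists_ringEquiv_pow_rootOfUnity (4 * Nat.card G) k
    (by have := Nat.card_pos (α := G); omega) hk
  have hmap : σ ((χ : G → ℂ) g) = (χ : G → ℂ) (g ^ k) :=
    H25.map_character_apply (H12.isCharacter_irr χ) σ k
      (fun z hz => hσ z (by rw [mul_comm, pow_mul, hz, one_pow])) g
  have hfix : ∀ x : H, σ ((θ : H → ℂ) x) = (θ : H → ℂ) x := fun x => by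
    have h4 := (theta_pow_four h hM x).1
    rw [hσ _ (by rw [pow_mul, h4, one_pow]), pow_eq_pow_mod k h4, h1, pow_one]
  have hj := H14.Deg16.galois_supp h hM h.mem_supp σ hfix
  set j : IrrCharacter G :=
    ⟨(σ : ℂ → ℂ) ∘ (χ : G → ℂ), H25.isIrrCharacter_ringEquiv_comp χ.2 σ⟩ with hjdef
  have hdeg : H12.degree (j : G → ℂ) = 4 := by
    have h2 : σ ((χ : G → ℂ) 1) = (H12.degree (j : G → ℂ) : ℂ) := H12.irr_apply_one j
    rw [H12.irr_apply_one, map_natCast, h.degree_eq] at h2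
    exact_mod_cast h2.symm
  obtain ⟨Θ, -, hΘ1⟩ := exists_theta_two h hft hM
  have h3 := Fam.reg_of_degree h hft Θ hj hdeg hg
  rw [hΘ1] at h3
  rw [← hmap]
  exact h3

/-- Powers realised by automorphisms inverting the labels conjugate the character on regular
elements. -/
theorem apply_pow_of_mod_three {k : ℕ} (hk : Nat.Coprime k (4 * Nat.card G)) (h1 : k % 4 = 3)
    {g : G} (hg : ¬ p ∣ orderOf g) : (χ : G → ℂ) (g ^ k) = conj ((χ : G → ℂ) g) := by
  obtain ⟨σ, hσ⟩ := H25.exists_ringEquiv_pow_rootOfUnity (4 * Nat.card G) k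
    (by have := Nat.card_pos (α := G); omega) hk
  have hmap : σ ((χ : G → ℂ) g) = (χ : G → ℂ) (g ^ k) :=
    H25.map_character_apply (H12.isCharacter_irr χ) σ k
      (fun z hz => hσ z (by rw [mul_comm, pow_mul, hz, one_pow])) g
  let σ' : ℂ ≃+* ℂ := σ.trans (starRingAut (R := ℂ))
  have happ : ∀ z : ℂ, σ' z = conj (σ z) := fun z => rfl
  have hfix : ∀ x : H, σ' ((θ : H → ℂ) x) = (θ : H → ℂ) x := fun x => by
    have h4 := (theta_pow_four h hM x).1
    rw [happ, hσ _ (by rw [pow_mul, h4, one_pow]), pow_eq_pow_mod k h4, h1, map_pow]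
    have h5 := root_mul_conj (n := 4) (by norm_num) h4
    set z := (θ : H → ℂ) x
    linear_combination (-(conj z) ^ 3) * h4 + (z + z ^ 2 * conj z + z ^ 3 * (conj z) ^ 2) * h5
  have hj := H14.Deg16.galois_supp h hM h.mem_supp σ' hfix
  set j : IrrCharacter G :=
    ⟨(σ' : ℂ → ℂ) ∘ (χ : G → ℂ), H25.isIrrCharacter_ringEquiv_comp χ.2 σ'⟩ with hjdef
  have hdeg : H12.degree (j : G → ℂ) = 4 := by
    have h2 : σ' ((χ : G → ℂ) 1) = (H12.degree (j : G → ℂ) : ℂ) := H12.irr_apply_one j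
    rw [H12.irr_apply_one, map_natCast, h.degree_eq] at h2
    exact_mod_cast h2.symm
  obtain ⟨Θ, -, hΘ1⟩ := exists_theta_two h hft hM
  have h3 := Fam.reg_of_degree h hft Θ hj hdeg hg
  rw [hΘ1] at h3
  have h4 : conj (σ ((χ : G → ℂ) g)) = (χ : G → ℂ) g := h3
  rw [← hmap]
  conv_rhs => rw [← h4]
  rw [Complex.conj_conj]

omit h hM in
/-- An exponent prime to four times the group order with a prescribed residue. -/
theorem exists_exponent {n j : ℕ} (hn : n ∣ 4 * Nat.card G) (hj : Nat.Coprime j n) :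
    ∃ k : ℕ, Nat.Coprime k (4 * Nat.card G) ∧ k ≡ j [MOD n] := by
  haveI : NeZero (4 * Nat.card G) := ⟨by have := Nat.card_pos (α := G); omega⟩
  obtain ⟨v, hv⟩ := ZMod.unitsMap_surjective hn (ZMod.unitOfCoprime j hj)
  refine ⟨(v : ZMod (4 * Nat.card G)).val, ZMod.val_coe_unit_coprime v, ?_⟩
  rw [← ZMod.natCast_eq_natCast_iff]
  have h1 := congrArg (fun w : (ZMod n)ˣ => (w : ZMod n)) hv
  simp only [ZMod.unitsMap_def, Units.coe_map, MonoidHom.coe_coe, ZMod.castHom_apply,
    ZMod.coe_unitOfCoprime] at h1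
  rw [← h1, ← ZMod.cast_eq_val]

/-- The squared absolute value. -/
theorem normSq_pow {g : G} (hg : ¬ p ∣ orderOf g) {j : ℕ} (hj : Nat.Coprime j (orderOf g)) :
    (χ : G → ℂ) (g ^ j) * conj ((χ : G → ℂ) (g ^ j)) =
      (χ : G → ℂ) g * conj ((χ : G → ℂ) g) := by
  obtain ⟨k, hk, hkj⟩ := exists_exponent hft (G := G) (orderOf_dvd_natCard g |>.mul_left 4) hj
  rw [← pow_eq_pow_iff_modEq.2 hkj]
  have hodd : k % 2 = 1 := by
    have h2 : Nat.Coprime k 4 := hk.coprime_mul_right_right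
    by_contra hne
    have : 2 ∣ Nat.gcd k 4 := Nat.dvd_gcd (by omega) (by norm_num)
    rw [h2.gcd_eq_one] at this
    omega
  rcases (show k % 4 = 1 ∨ k % 4 = 3 by omega) with h1 | h1
  · rw [apply_pow_of_mod_one h hft hM hk h1 hg]
  · rw [apply_pow_of_mod_three h hft hM hk h1 hg, Complex.conj_conj, mul_comm]

/-- The character itself, for residues compatible with the trivial action on the labels. -/
theorem apply_pow {g : G} (hg : ¬ p ∣ orderOf g) {j : ℕ} (hj : Nat.Coprime j (orderOf g))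
    (h1 : j ≡ 1 [MOD Nat.gcd (orderOf g) 4]) : (χ : G → ℂ) (g ^ j) = (χ : G → ℂ) g := by
  obtain ⟨k₀, hk₀, hk₀'⟩ := Nat.chineseRemainder' (a := j) (b := 1) h1
  have hco : Nat.Coprime k₀ (Nat.lcm (orderOf g) 4) := by
    refine Nat.Coprime.coprime_dvd_right (Nat.lcm_dvd_mul _ _) (Nat.Coprime.mul_right ?_ ?_)
    · rw [Nat.coprime_iff_gcd_eq_one, hk₀.gcd_eq]; exact hj
    · rw [Nat.coprime_iff_gcd_eq_one, hk₀'.gcd_eq]; rfl
  obtain ⟨k, hk, hkk⟩ := exists_exponent hft (G := G)
    (Nat.lcm_dvd ((orderOf_dvd_natCard g).mul_left 4) (dvd_mul_right 4 _)) hco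
  rw [← pow_eq_pow_iff_modEq.2 ((hkk.of_dvd (Nat.dvd_lcm_left _ _)).trans hk₀)]
  exact apply_pow_of_mod_one h hft hM hk ((hkk.of_dvd (Nat.dvd_lcm_right _ _)).trans hk₀') hg

omit hft in
/-- Central translations do not change the absolute value. -/
theorem normSq_mul_center (g : G) (z : H) :
    (χ : G → ℂ) (g * z) * conj ((χ : G → ℂ) (g * z)) = (χ : G → ℂ) g * conj ((χ : G → ℂ) g) := by
  have h1 := root_mul_conj (n := 4) (by norm_num) (theta_pow_four h hM z).1
  rw [central_mul D h.central_le hM h.mem_supp, map_mul]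
  linear_combination ((χ : G → ℂ) g * conj ((χ : G → ℂ) g)) * h1

omit hM in
/-- The absolute value at the nontrivial elements of `P`. -/
theorem normSq_P (x : (P : Subgroup G)) (hx : x ≠ 1) :
    (χ : G → ℂ) x * conj ((χ : G → ℂ) x) = 2 := by
  rw [h.val_per hft x hx, map_neg, neg_mul_neg,
    (per_sq h hft (one_mem_lab hft) x hx).2 (by decide)]
  norm_num

omit hft in
/-- Only central elements attain the degree. -/
theorem mem_center_of_normSq {g : G}
    (hg : (χ : G → ℂ) g * conj ((χ : G → ℂ) g) = 16) : g ∈ H := by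
  have hfin : (g : G) ∈ Subgroup.center G := by
    refine mem_center_of_norm χ h.faithful ?_
    rw [h.degree_eq]
    rw [Complex.mul_conj, Complex.normSq_eq_norm_sq] at hg
    have h1 : ‖(χ : G → ℂ) g‖ ^ 2 = (4 : ℝ) ^ 2 := by
      rw [show (4 : ℝ) ^ 2 = 16 by norm_num]
      exact_mod_cast hg
    have h2 := (pow_left_inj₀ (norm_nonneg _) (by norm_num) two_ne_zero).1 h1
    rw [h2]; norm_num
  rw [h.center_eq]
  exact hfin

/-- The squared absolute value on regular elements is an integer below sixteen off the centre. -/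
theorem exists_normSq {g : G} (hg : ¬ p ∣ orderOf g) :
    ∃ z : ℤ, (χ : G → ℂ) g * conj ((χ : G → ℂ) g) = (z : ℂ) ∧ 0 ≤ z ∧ (g ∉ H → z ≤ 15) := by
  have hF : IsCharacter G fun y => (χ : G → ℂ) y * conj ((χ : G → ℂ) y) :=
    H12.IsCharacter.mul (H12.isCharacter_irr χ) (H12.IsCharacter.star (H12.isCharacter_irr _))
  obtain ⟨z, hz⟩ := exists_int_of_invariant hF (g := g) fun m j hj =>
    normSq_pow h hft hM (fun hd => hg (hd.trans (orderOf_pow_dvd m))) hj
  have hz' : (χ : G → ℂ) g * conj ((χ : G → ℂ) g) = (z : ℂ) := hz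
  have hR : Complex.normSq ((χ : G → ℂ) g) = (z : ℝ) := by
    rw [Complex.mul_conj] at hz'
    exact_mod_cast hz'
  refine ⟨z, hz', by exact_mod_cast hR ▸ Complex.normSq_nonneg ((χ : G → ℂ) g), fun hgH => ?_⟩
  by_contra hlt
  refine hgH (mem_center_of_normSq h hM ?_)
  have h1 := H12.IsCharacter.norm_le (H12.isCharacter_irr χ) g
  rw [h.degree_eq] at h1
  have h2 : (z : ℝ) ≤ 16 := by
    rw [← hR, Complex.normSq_eq_norm_sq]
    push_cast at h1
    nlinarith [norm_nonneg ((χ : G → ℂ) g)]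
  have h3 : z ≤ 16 := by exact_mod_cast h2
  rw [hz', show z = 16 by omega]
  norm_num

/-- Values at elements of order a power of an odd prime other than `p`. -/
theorem exists_value {g : G} {r : ℕ} (hr : r.Prime) (hr2 : r ≠ 2) (hrp : r ≠ p) {e : ℕ}
    (hg : orderOf g = r ^ e) :
    ∃ z : ℤ, (χ : G → ℂ) g = (z : ℂ) ∧ (g = 1 ∨ (-3 ≤ z ∧ z ≤ 3)) := by
  have hco : ∀ m, Nat.gcd (orderOf (g ^ m)) 4 = 1 := fun m => by
    refine Nat.Coprime.coprime_dvd_left (orderOf_pow_dvd (x := g) m) ?_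
    rw [hg]
    refine Nat.Coprime.pow_left e ((Nat.coprime_primes hr Nat.prime_two).2 hr2 |>.pow_right 2)
  have hreg : ∀ m, ¬ p ∣ orderOf (g ^ m) := fun m hd => hrp
    (((Nat.prime_dvd_prime_iff_eq hp.out hr).1
      (hp.out.dvd_of_dvd_pow (hg ▸ hd.trans (orderOf_pow_dvd (x := g) m)))).symm)
  obtain ⟨z, hz⟩ := exists_int_of_invariant (H12.isCharacter_irr χ) (g := g) fun m j hj =>
    apply_pow h hft hM (hreg m) hj (by rw [hco m]; exact Nat.modEq_one)
  refine ⟨z, hz, ?_⟩
  by_cases hg1 : g = 1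
  · exact Or.inl hg1
  refine Or.inr ?_
  have h1 := H12.IsCharacter.norm_le (H12.isCharacter_irr χ) g
  rw [h.degree_eq, hz, Complex.norm_intCast] at h1
  have h2 : |z| ≤ 4 := by exact_mod_cast h1
  suffices |z| ≠ 4 by
    obtain ⟨h3, h4⟩ := abs_le.1 h2
    rcases lt_or_eq_of_le h2 with h5 | h5
    · obtain ⟨h6, h7⟩ := abs_lt.1 h5
      exact ⟨by omega, by omega⟩
    · exact absurd h5 this
  intro h4
  have hgH : g ∈ H := mem_center_of_normSq h hM (by
    rw [hz, map_intCast, ← Int.cast_mul, ← abs_mul_abs_self z, h4]; norm_num)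
  have hd : orderOf g ∣ 4 := orderOf_dvd_of_pow_eq_one (center_pow_four h hM hgH)
  rw [hg] at hd
  have hc : Nat.Coprime (r ^ e) 4 :=
    Nat.Coprime.pow_left e ((Nat.coprime_primes hr Nat.prime_two).2 hr2 |>.pow_right 2)
  exact hg1 (orderOf_eq_one_iff.1 (hg.trans (Nat.eq_one_of_dvd_coprimes hc dvd_rfl hd)))

end H79.SmallPrime
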